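import Cfsg.Agent.H657.FourFi.Dv
import Cfsg.Agent.Schreier.FiTwentyTwo
import Cfsg.Agent.S2546
import Cfsg.Agent.H559.USixSpec
import Cfsg.Agent.H732.USixDiag

/-!
# `U₆(2)` and `Fi22`: the elements of order seven
-/

set_option autoImplicit false

open Cfsg

namespace Cfsg.Agent.H657.FourFi

open Cfsg.Agent.Blocks.LocalRing
open Cfsg.Agent.Blocks
open Cfsg.Agent.Characters.Core
open Cfsg.Agent.H652.Four
open Subgroup

universe u v

section psu

variable {F : Type*} [Field F] [Fintype F]

theorem not_sq_psu (hF : Fintype.card F = 4) : ¬ 7 ^ 2 ∣ Nat.card (PSU 6 F 2) := by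
  rw [H732.USix.card_psu6 hF]
  norm_num

theorem sev_psu (hF : Fintype.card F = 4) : Sev 7 (PSU 6 F 2) := by
  have hfin : Finite (PSU 6 F 2) :=
    Nat.finite_of_card_ne_zero (by rw [H732.USix.card_psu6 hF]; norm_num)
  have h2 : Fact (Nat.Prime 2) := ⟨Nat.prime_two⟩
  have hchar : CharP F 2 := by
    obtain ⟨p, hp⟩ := CharP.exists F
    obtain ⟨n, hp', hn⟩ := FiniteField.card F p
    rw [hF] at hn
    have h1 : p ∣ 4 := by
      rw [hn]
      exact dvd_pow_self p n.ne_zero
    have h3 : p ∣ 2 ^ 2 := by simpa using h1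
    have h4 : p = 2 := (Nat.prime_dvd_prime_iff_eq hp' Nat.prime_two).1 (hp'.dvd_of_dvd_pow h3)
    rwa [h4] at hp
  refine sev_of_steinberg (a := 15) (m := 40095) (not_sq_psu hF)
    (fun x hx => H559.USixSpec.seven hF x hx) ?_ (by norm_num) (by norm_num) (by norm_num) ?_
  · rw [H732.USix.card_psu6 hF]
    norm_num
  · obtain ⟨χ, hχ, hP⟩ := S2546.result (F := F) 2 6 2 (by norm_num) (by rw [hF]; norm_num)
    refine ⟨χ, hχ, ?_⟩
    obtain ⟨P⟩ : Nonempty (Sylow 2 (PSU 6 F 2)) := inferInstance
    rw [(hP P).1]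
    congr 1
    rw [P.card_eq_multiplicity, H732.USix.card_psu6 hF]
    have e : (9196830720 : ℕ) = 2 ^ 15 * 280665 := by norm_num
    rw [e, Nat.factorization_mul (by norm_num) (by norm_num), Nat.Prime.factorization_pow Nat.prime_two,
      Finsupp.add_apply, Finsupp.single_eq_same, Nat.factorization_eq_zero_of_not_dvd (by norm_num)]

/-- the class of elements of order seven has length `2^15 * 40095` -/
theorem index_psu (hF : Fintype.card F = 4) {x : PSU 6 F 2} (hx : orderOf x = 7) :
    (centralizer ({x} : Set (PSU 6 F 2))).index = 2 ^ 15 * 40095 := by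
  have hfin : Finite (PSU 6 F 2) :=
    Nat.finite_of_card_ne_zero (by rw [H732.USix.card_psu6 hF]; norm_num)
  have h1 := (centralizer ({x} : Set (PSU 6 F 2))).card_mul_index
  rw [card_cent (by norm_num) (not_sq_psu hF) (fun x hx => H559.USixSpec.seven hF x hx) hx,
    H732.USix.card_psu6 hF] at h1
  omega

end psu

section CQ

open Cfsg.Agent.Schreier.Step Cfsg.Agent.Schreier.FiCommon

/-- the kernel of the projection of the centraliser of an involution -/
theorem ker_cq {G : Type u} [Group G] {z : G} (hz : z * z = 1) {Q : Type v} [Group Q]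
    {f : centralizer ({z} : Set G) →* Q} (h : CQ _ z f) :
    f.ker ≤ center (centralizer ({z} : Set G)) ∧ IsPGroup 2 f.ker := by
  constructor
  · intro x hx
    rw [mem_center_iff]
    intro g
    rcases eq_of_mem_zpowers hz ((h.ker x).1 hx) with h1 | h1
    · have : x = 1 := Subtype.ext h1
      rw [this, mul_one, one_mul]
    · apply Subtype.ext
      show (g : G) * x = x * g
      rw [h1]
      exact mem_centralizer_singleton_iff.1 g.2
  · rintro ⟨x, hx⟩
    refine ⟨1, ?_⟩
    apply Subtype.ext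
    apply Subtype.ext
    show (x : G) ^ 2 ^ 1 = 1
    rw [pow_one, pow_two]
    rcases eq_of_mem_zpowers hz ((h.ker x).1 hx) with h1 | h1
    · rw [h1, mul_one]
    · rw [h1, hz]

/-- `⟨z⟩` -/
theorem centralizer_zpowers {G : Type u} [Group G] (z : G) :
    centralizer (zpowers z : Set G) = centralizer ({z} : Set G) := by
  rw [zpowers_eq_closure, centralizer_closure]

/-- from the quotient of the centraliser of an involution -/
theorem sev_cent {G : Type u} [Group G] [Finite G] {z : G} (hz : z * z = 1) {Q : Type v} [Group Q]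
    {f : centralizer ({z} : Set G) →* Q} (h : CQ _ z f) {r : ℕ} (hr : r.Prime) (hr2 : r ≠ 2)
    (hQ : Sev r Q) : Sev r (centralizer ({z} : Set G)) :=
  Sev.of_quot hr hr2 h.surj (ker_cq hz h).1 (ker_cq hz h).2 hQ

/-- ... and up to `G` -/
theorem sev_up {G : Type u} [Group G] [Finite G] {z : G} (hz : z * z = 1) {r : ℕ} (hr : r.Prime)
    (h2 : ¬ r ^ 2 ∣ Nat.card G) (h : Sev r (centralizer ({z} : Set G))) : Sev r G := by
  have e := centralizer_zpowers z
  have hp : IsPGroup 2 (zpowers z) := by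
    rintro ⟨x, hx⟩
    refine ⟨1, ?_⟩
    apply Subtype.ext
    show x ^ 2 ^ 1 = 1
    rw [pow_one, pow_two]
    rcases eq_of_mem_zpowers hz hx with h1 | h1
    · rw [h1, mul_one]
    · rw [h1, hz]
  refine Sev.of_cent hr h2 hp ?_ ?_
  · rw [e, zpowers_le, mem_centralizer_singleton_iff]
  · rw [e]
    exact h

end CQ

section fi22

open Cfsg.Agent.Fischer.Abstract Cfsg.Agent.Fischer.Centralizer
  Cfsg.Agent.Fischer.Group22 Cfsg.Agent.Fischer.Rank22 Cfsg.Agent.Fischer.Unit22 Cfsg.Agent.SporRec.GF4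
  Cfsg.Agent.Schreier.Step Cfsg.Agent.Schreier.FiCommon

theorem fi22_both : Sev 7 G ∧ Dv 7 16 G := by
  have hfin : Finite G := Nat.finite_of_card_ne_zero (by rw [Cfsg.Agent.Fischer.Order22.card_G]; norm_num)
  have hcC := Cfsg.Agent.Fischer.Order22.card_C
  have hcG := Cfsg.Agent.Fischer.Order22.card_G
  set d : G := R.t R.x0 with hd
  have hdd : d * d = 1 := R.sq
  have hd1 : d ≠ 1 := R.t_x0_ne_one
  obtain ⟨f, hf⟩ := cq_of_cover hd1 isNonsplitDoubleCover_C
  have h7 : Nat.Prime 7 := by norm_num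
  have hsev := sev_cent hdd hf h7 (by norm_num) (sev_psu hF)
  have hn : ¬ 7 ^ 2 ∣ Nat.card G := by
    rw [hcG]
    norm_num
  have hup := sev_up hdd h7 hn hsev
  refine ⟨hup, ?_⟩
  intro y hy
  -- an element of order seven of the centraliser
  obtain ⟨x, hx⟩ := hsev.ex
  have hxo : orderOf (x : G) = 7 := by rw [orderOf_coe, hx]
  have hxC : (x : G) ∈ centralizer ({d} : Set G) := x.2
  obtain ⟨c, hc⟩ := isConj_iff.1 (hup.conj _ _ hxo hy)
  have hidx : (centralizer ({y} : Set G)).index = (centralizer ({(x : G)} : Set G)).index := by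
    have h1 := index_centralizer_equiv (MulAut.conj c) (x : G)
    rw [MulAut.conj_apply, hc] at h1
    exact h1.symm
  rw [hidx]
  have h1 : (centralizer ({x} : Set (centralizer ({d} : Set G)))).index = 2 ^ 15 * 40095 := by
    rw [index_quot h7 (by norm_num) hf.surj (ker_cq hdd hf).1 (ker_cq hdd hf).2 hx]
    exact index_psu hF (orderOf_image h7 (by norm_num) (ker_cq hdd hf).2 hx)
  have h2 := card_inf hxC
  rw [show (⟨(x : G), hxC⟩ : centralizer ({d} : Set G)) = x from rfl, h1] at h2
  have h3 : Nat.card (centralizer ({d} : Set G)) = 18393661440 := hcC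
  rw [h3] at h2
  have h4 : ¬ 4 ∣ Nat.card ↥(centralizer ({(x : G)} : Set G) ⊓ centralizer ({d} : Set G)) := by
    have : Nat.card ↥(centralizer ({(x : G)} : Set G) ⊓ centralizer ({d} : Set G)) = 14 := by omega
    rw [this]
    norm_num
  have h5 := not_four (X := centralizer ({(x : G)} : Set G)) (d := d)
    (mem_centralizer_singleton_iff.2 (mem_centralizer_singleton_iff.1 hxC).symm) (R.orderOf_t _) h4
  have h6 := (centralizer ({(x : G)} : Set G)).card_mul_index
  rw [hcG] at h6
  have h8 : 2 ^ 17 ∣ Nat.card (centralizer ({(x : G)} : Set G)) *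
      (centralizer ({(x : G)} : Set G)).index := by
    rw [h6]
    norm_num
  refine dvd_of_mul (a := (centralizer ({(x : G)} : Set G)).index)
    (b := 2 ^ (Nat.card (centralizer ({(x : G)} : Set G))).factorization 2)
    (c := 1) (w := 2 ^ (Nat.card (centralizer ({(x : G)} : Set G))).factorization 2 *
      (centralizer ({(x : G)} : Set G)).index) (k := 17) (l := 1) (e := 0) ?_ (by positivity) ?_
      (by norm_num) ?_ (by norm_num)
  · ring
  · have h9 : (Nat.card (centralizer ({(x : G)} : Set G))).factorization 2 < 2 := by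
      by_contra hcon
      apply h5
      exact (pow_dvd_pow 2 (not_lt.1 hcon)).trans (Nat.ordProj_dvd _ _)
    exact Nat.pow_lt_pow_right (by norm_num) h9
  · have h10 := Nat.ordProj_mul_ordCompl_eq_self (Nat.card (centralizer ({(x : G)} : Set G))) 2
    have h11 : Nat.Coprime (2 ^ 17)
        (ordCompl[2] (Nat.card (centralizer ({(x : G)} : Set G)))) :=
      Nat.Coprime.pow_left 17 (Nat.coprime_ordCompl Nat.prime_two Nat.card_pos.ne')
    rw [← h10, mul_assoc, mul_left_comm] at h8
    exact h11.dvd_of_dvd_mul_left h8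

theorem sev_fi22 : Sev 7 Spor.Fi22 := by
  have hfin : Finite Spor.Fi22 := by
    have hfin : Finite G := Nat.finite_of_card_ne_zero (by rw [Cfsg.Agent.Fischer.Order22.card_G]; norm_num)
    exact Finite.of_equiv G Cfsg.Agent.SporRec.Fi22Iso.ψe.symm.toEquiv
  exact fi22_both.1.of_equiv Cfsg.Agent.SporRec.Fi22Iso.ψe

theorem dv_fi22 : Dv 7 16 Spor.Fi22 := fi22_both.2.of_equiv Cfsg.Agent.SporRec.Fi22Iso.ψe

end fi22

/-- **`Fi22`.** -/
theorem loc_Fi22 {S : Type u} [Group S] [Finite S] (h : Cfsg.Spor.IsoFi22 S) : Loc S := by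
  obtain ⟨e⟩ := h
  exact loc_of (sev_fi22.of_equiv e) (dv_fi22.of_equiv e) (by norm_num)

end Cfsg.Agent.H657.FourFi
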