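import Cfsg.Agent.H657.FourFi.Fi22
import Cfsg.Agent.CTwoTab.FiTF
import Cfsg.Agent.CpAutFiSeven.None

/-!
# `Fi24'`: an element of order seven

`t` = product of two commuting transpositions `a`, `b`; `C(t)` has the normal subgroup `C(a, b)` (double cover of
`Fi22`), which contains all elements of odd order.
-/

set_option autoImplicit false

open Cfsg

namespace Cfsg.Agent.H657.FourFi

open Cfsg.Agent.Blocks.LocalRing
open Cfsg.Agent.Blocks
open Cfsg.Agent.Characters.Core
open Cfsg.Agent.H652.Four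
open Subgroup
open Cfsg.Agent.R08.FiTwentyFour Cfsg.Agent.CTwoTab.FiTF
open Cfsg.Spor (Fi24 Fi22)

local notation "Pr" => Cfsg.Agent.R08.TetFi24A.At

universe u v

theorem loc_equiv {G : Type u} [Group G] [Finite G] {Q : Type v} [Group Q] (e : G ≃* Q) (h : Loc Q) :
    Loc G := by
  obtain ⟨x, hx, hM⟩ := h
  refine ⟨e.symm x, ?_, fun M h2 => NN.of_equiv e ?_⟩
  · rw [index_centralizer_equiv e, e.apply_symm_apply]
    exact hx
  · rw [e.apply_symm_apply]
    exact hM M h2

section pair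

variable {a b : Fi24}

theorem zz_pair (P : Pr a b) : P.z * P.z = 1 := by
  apply Subtype.ext
  show (P.z : Fi24) * (P.z : Fi24) = 1
  have h1 : a * b = b * a := P.ab
  rw [P.hz]
  calc a * b * (a * b) = a * (b * a) * b := by group
    _ = a * a * (b * b) := by rw [← h1]; group
    _ = 1 := by rw [Cfsg.Agent.R08.FiTwentyFour.sq P.ha, Cfsg.Agent.R08.FiTwentyFour.sq P.hb, one_mul]

theorem isPGroup_ker (P : Pr a b) : IsPGroup 2 P.π.ker := by
  rintro ⟨x, hx⟩
  refine ⟨1, ?_⟩
  apply Subtype.ext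
  show x ^ 2 ^ 1 = 1
  rw [pow_one, pow_two]
  rw [MonoidHom.mem_ker, P.lift.ext.ker] at hx
  rcases hx with rfl | rfl
  · rw [mul_one]
  · exact zz_pair P

theorem sev_Cab (P : Pr a b) : Sev 7 (Cab a b) := by
  have := finite_Fi24
  exact Sev.of_quot (by norm_num) (by norm_num) P.lift.ext.surj (ker_le P) (isPGroup_ker P) sev_fi22

theorem dv_Cab (P : Pr a b) : Dv 7 16 (Cab a b) :=
  Dv.of_quot (by norm_num) (by norm_num) P.lift.ext.surj (ker_le P) (isPGroup_ker P) dv_fi22

/-- conjugation by an element of `C(t)` -/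
theorem conj_mem_N (P : Pr a b) {t c n : Spor.Fi24'} (ht : (t : Fi24) = a * b)
    (hc : c ∈ centralizer ({t} : Set Spor.Fi24')) (hn : n ∈ N a b) : c * n * c⁻¹ ∈ N a b := by
  rw [mem_N, mem_Cab] at hn ⊢
  obtain ⟨-, h1, h2⟩ := hn
  have key : ∀ u v : Fi24, (c : Fi24) * u * (c : Fi24)⁻¹ = v → (n : Fi24) * u = u * n →
      ((c * n * c⁻¹ : Spor.Fi24') : Fi24) * v = v * ((c * n * c⁻¹ : Spor.Fi24') : Fi24) := by
    rintro u _ rfl h
    show (c : Fi24) * n * (c : Fi24)⁻¹ * (c * u * (c : Fi24)⁻¹) =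
      c * u * (c : Fi24)⁻¹ * (c * n * (c : Fi24)⁻¹)
    calc (c : Fi24) * n * (c : Fi24)⁻¹ * (c * u * (c : Fi24)⁻¹) = c * (n * u) * (c : Fi24)⁻¹ := by group
      _ = c * (u * n) * (c : Fi24)⁻¹ := by rw [h]
      _ = _ := by group
  refine ⟨mem_commutator_iff.1 (c * n * c⁻¹ : Spor.Fi24').2, ?_⟩
  rcases fix_or_swap P ht hc with ⟨h3, h4⟩ | ⟨h3, h4⟩
  · exact ⟨key a a h3 h1, key b b h4 h2⟩
  · exact ⟨key b a h4 h2, key a b h3 h1⟩

/-- the elements of order seven of `C(t)` -/
theorem seven_mem_N (P : Pr a b) {t x : Spor.Fi24'} (ht : (t : Fi24) = a * b)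
    (hx : x ∈ centralizer ({t} : Set Spor.Fi24')) (h7 : orderOf x = 7) : x ∈ N a b := by
  rw [mem_N, mem_Cab]
  refine ⟨mem_commutator_iff.1 x.2, ?_⟩
  have hx7 : (x : Fi24) ^ 7 = 1 := by
    have h1 : x ^ 7 = 1 := by rw [← h7]; exact pow_orderOf_eq_one x
    exact congrArg Subtype.val h1
  rcases fix_or_swap P ht hx with ⟨h3, h4⟩ | ⟨h3, h4⟩
  · exact ⟨mul_inv_eq_iff_eq_mul.1 h3, mul_inv_eq_iff_eq_mul.1 h4⟩
  · exfalso
    have h5 : Commute ((x : Fi24) ^ 2) a := by
      show (x : Fi24) ^ 2 * a = a * (x : Fi24) ^ 2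
      rw [← mul_inv_eq_iff_eq_mul]
      calc (x : Fi24) ^ 2 * a * ((x : Fi24) ^ 2)⁻¹ = x * (x * a * (x : Fi24)⁻¹) * (x : Fi24)⁻¹ := by
            rw [pow_two, mul_inv_rev]
            simp only [mul_assoc]
        _ = a := by rw [h3, h4]
    have h6 : Commute (x : Fi24) a := by
      have h7 := h5.pow_left 4
      have h8 : ((x : Fi24) ^ 2) ^ 4 = x := by
        rw [← pow_mul, show 2 * 4 = 7 + 1 from rfl, pow_succ, hx7, one_mul]
      rwa [h8] at h7
    apply P.ne
    rw [← h3]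
    exact (mul_inv_eq_iff_eq_mul.2 h6.eq).symm

end pair

theorem loc_fi24 : Loc Spor.Fi24' := by
  have hfin := finite_Fi24
  have hfin' : Finite Spor.Fi24' := inferInstance
  have h := KFacts.FiTF.Tet.isTet (t := 0) (by norm_num)
  generalize KFacts.FiTF.Defs.D 0 0 = a at h
  generalize KFacts.FiTF.Defs.D 0 1 = b at h
  obtain ⟨P⟩ := R08.TetFi24A.exists_at h.ha h.hb h.nab h.ab
  set t : Spor.Fi24' := ⟨a * b, Cfsg.Agent.R08.FiTwentyFour.even h.ha h.hb⟩ with htdef
  have ht : (t : Fi24) = a * b := rfl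
  set C := centralizer ({t} : Set Spor.Fi24') with hC
  have hN : N a b ≤ C := N_le ht
  have hnorm : ((N a b).subgroupOf C).Normal := ⟨fun n hn c => by
    rw [mem_subgroupOf] at hn ⊢
    exact conj_mem_N P ht c.2 hn⟩
  have hmem : ∀ x : C, orderOf x = 7 → x ∈ (N a b).subgroupOf C := by
    intro x hx
    rw [mem_subgroupOf]
    exact seven_mem_N P ht x.2 (by rw [orderOf_coe, hx])
  have e : ↥((N a b).subgroupOf C) ≃* ↥(Cab a b) := (subgroupOfEquivOfLe hN).trans (eN a b)
  have hsC : Sev 7 C := Sev.of_normal hmem ((sev_Cab P).of_equiv e)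
  have hdC : Dv 7 16 C := Dv.of_normal hmem ((dv_Cab P).of_equiv e)
  have htt : t * t = 1 := by
    apply Subtype.ext
    have h1 := zz_pair P
    have h2 := congrArg Subtype.val h1
    show (t : Fi24) * (t : Fi24) = 1
    rw [ht, ← P.hz]
    exact h2
  obtain ⟨x, hx⟩ := hsC.ex
  have hxo : orderOf (x : Spor.Fi24') = 7 := by rw [orderOf_coe, hx]
  have hxN := hmem x hx
  rw [mem_subgroupOf, mem_N, mem_Cab] at hxN
  refine ⟨(x : Spor.Fi24'), ?_, fun M hM => ?_⟩
  · -- the number of conjugates of `t` under `C(x)`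
    have hxo' : orderOf ((x : Spor.Fi24') : Fi24) = 7 := by rw [orderOf_coe, hxo]
    obtain ⟨T, hT⟩ := CpAutFiSeven.tri hxo' h.ha hxN.2.1
    have hb : C.relIndex (centralizer ({(x : Spor.Fi24')} : Set Spor.Fi24')) < 2 ^ (11 + 1) := by
      refine lt_of_le_of_lt (relIndex_le_of_conj (t := t)
        (s := {y : Spor.Fi24' | (y : Fi24) ∈ Set.range
          (fun p : (Fin 7 × Fin 7) × (Fin 7 × Fin 7) => T p.1.1 p.1.2 * T p.2.1 p.2.2)}) ?_) ?_
      · intro c hc
        have hcx : (x : Fi24) * (c : Fi24) = c * x := by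
          exact congrArg Subtype.val (mem_centralizer_singleton_iff.1 hc).symm
        have key : ∀ d : Fi24, d ∈ L → ((x : Spor.Fi24') : Fi24) * d = d * x →
            ∃ i j, (c : Fi24) * d * (c : Fi24)⁻¹ = T i j := by
          intro d hd hxd
          obtain ⟨i, j, -, hij⟩ := hT.surj ((c : Fi24) * d * (c : Fi24)⁻¹)
            (Cfsg.Agent.R08.FiTwentyFour.conj hd c) (by
              calc (x : Fi24) * (c * d * (c : Fi24)⁻¹) = (x * c) * d * (c : Fi24)⁻¹ := by group
                _ = c * (x * d) * (c : Fi24)⁻¹ := by rw [hcx]; group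
                _ = c * d * (x * (c : Fi24)⁻¹) := by rw [hxd]; group
                _ = c * d * ((c : Fi24)⁻¹ * x) := by
                  congr 1
                  rw [eq_inv_mul_iff_mul_eq, ← mul_assoc, ← hcx, mul_assoc, mul_inv_cancel, mul_one]
                _ = _ := by group)
          exact ⟨i, j, hij⟩
        obtain ⟨i, j, h1⟩ := key a h.ha hxN.2.1
        obtain ⟨k, l, h2⟩ := key b h.hb hxN.2.2
        refine ⟨((i, j), (k, l)), ?_⟩
        show T i j * T k l = (c : Fi24) * (a * b) * (c : Fi24)⁻¹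
        rw [← h1, ← h2]
        group
      · have h1 : ({y : Spor.Fi24' | (y : Fi24) ∈ Set.range
            (fun p : (Fin 7 × Fin 7) × (Fin 7 × Fin 7) => T p.1.1 p.1.2 * T p.2.1 p.2.2)}).ncard ≤
            (Set.range (fun p : (Fin 7 × Fin 7) × (Fin 7 × Fin 7) =>
              T p.1.1 p.1.2 * T p.2.1 p.2.2)).ncard :=
          Set.ncard_le_ncard_of_injOn (fun y : Spor.Fi24' => (y : Fi24)) (fun y hy => hy)
            (fun y _ z _ hyz => Subtype.ext hyz) (Set.toFinite _)
        refine lt_of_le_of_lt h1 ?_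
        rw [← Set.image_univ]
        refine lt_of_le_of_lt (Set.ncard_image_le Set.finite_univ) ?_
        rw [Set.ncard_univ]
        simp
    have h4 := dvd_index_up (t := t) (x := (x : Spor.Fi24')) (k := 16) (e := 0) (l := 11) (m := 2) x.2
      (hdC x hx) (by norm_num) hb (by norm_num)
    simpa using h4
  · have e := centralizer_zpowers t
    have hp : IsPGroup 2 (zpowers t) := by
      rintro ⟨y, hy⟩
      refine ⟨1, ?_⟩
      apply Subtype.ext
      show y ^ 2 ^ 1 = 1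
      rw [pow_one, pow_two]
      rcases Cfsg.Agent.Schreier.FiCommon.eq_of_mem_zpowers htt hy with h1 | h1
      · rw [h1, mul_one]
      · rw [h1, htt]
    refine Sev.nn_of_cent hp ?_ ?_ hM hxo ?_
    · rw [e, zpowers_le, mem_centralizer_singleton_iff]
    · rw [e]
      exact hsC
    · rw [e]
      exact x.2

/-- **`Fi24'`.** -/
theorem loc_Fi24 {S : Type u} [Group S] [Finite S] (h : Cfsg.Spor.IsoFi24' S) : Loc S := by
  obtain ⟨e⟩ := h
  exact loc_equiv e loc_fi24

end Cfsg.Agent.H657.FourFi
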