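import Cfsg.Agent.H657.FourFi.SelfCent

/-!
# The 2-part of the length of the class of elements of order `r`
-/

set_option autoImplicit false

open Cfsg

namespace Cfsg.Agent.H657.FourFi

open Cfsg.Agent.Blocks.LocalRing
open Cfsg.Agent.Blocks
open Cfsg.Agent.Characters.Core
open Cfsg.Agent.H652.Four
open Subgroup

universe u v

/-- `2 ^ k` divides the length of the class of every element of order `r` -/
def Dv (r k : ℕ) (G : Type u) [Group G] : Prop :=
  ∀ x : G, orderOf x = r → 2 ^ k ∣ (centralizer ({x} : Set G)).index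

theorem index_centralizer_equiv {G : Type u} [Group G] {Q : Type v} [Group Q] (e : G ≃* Q) (x : G) :
    (centralizer ({x} : Set G)).index = (centralizer ({e x} : Set Q)).index := by
  have e1 : centralizer ({x} : Set G) = (centralizer ({e x} : Set Q)).comap e.toMonoidHom := by
    ext g
    rw [mem_comap, mem_centralizer_singleton_iff, mem_centralizer_singleton_iff]
    constructor
    · intro h
      show e g * e x = e x * e g
      rw [← map_mul, h, map_mul]
    · intro h
      apply e.injective
      rw [map_mul, map_mul]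
      exact h
  rw [e1, index_comap_of_surjective _ e.surjective]

theorem Dv.of_equiv {G : Type u} [Group G] {Q : Type v} [Group Q] {r k : ℕ} (e : G ≃* Q)
    (h : Dv r k Q) : Dv r k G := by
  intro x hx
  rw [index_centralizer_equiv e]
  exact h (e x) (by rw [MulEquiv.orderOf_eq, hx])

/-- `Loc` across universes -/
theorem loc_of {G : Type u} [Group G] {r k : ℕ} (h : Sev r G) (h' : Dv r k G) (hk : 2 ≤ k) : Loc G := by
  obtain ⟨x, hx⟩ := h.ex
  refine ⟨x, ?_, fun M hM => h.nn M hM x hx⟩
  refine dvd_trans ?_ (h' x hx)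
  exact pow_dvd_pow 2 hk

/-- the image of an element of order `r` in a quotient by a 2-group has order `r` -/
theorem orderOf_image {G : Type u} [Group G] {Q : Type v} [Group Q] {r : ℕ} (hr : r.Prime)
    (hr2 : r ≠ 2) {φ : G →* Q} (hp : IsPGroup 2 φ.ker) {x : G} (hx : orderOf x = r) :
    orderOf (φ x) = r := by
  have hcop : Nat.Coprime r 2 := (Nat.coprime_primes hr Nat.prime_two).2 hr2
  have h1 : orderOf (φ x) ∣ r := hx ▸ orderOf_map_dvd φ x
  rcases (Nat.dvd_prime hr).1 h1 with h2 | h2
  · exfalso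
    have h3 : x ∈ φ.ker := orderOf_eq_one_iff.1 h2
    obtain ⟨k, hk⟩ := hp ⟨x, h3⟩
    have hk' : x ^ 2 ^ k = 1 := by simpa using congrArg Subtype.val hk
    have h4 : orderOf x ∣ 2 ^ k := orderOf_dvd_of_pow_eq_one hk'
    rw [hx] at h4
    exact hr.one_lt.ne' (Nat.eq_one_of_dvd_coprimes (Nat.Coprime.pow_right k hcop) dvd_rfl h4)
  · exact h2

/-- the class lengths in `G` and in a quotient by a central 2-group are the same -/
theorem index_quot {G : Type u} [Group G] {Q : Type v} [Group Q] {r : ℕ} (hr : r.Prime)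
    (hr2 : r ≠ 2) {φ : G →* Q}
    (hφ : Function.Surjective φ) (hker : φ.ker ≤ center G) (hp : IsPGroup 2 φ.ker)
    {x : G} (hx : orderOf x = r) :
    (centralizer ({x} : Set G)).index = (centralizer ({φ x} : Set Q)).index := by
  have hcop : Nat.Coprime r 2 := (Nat.coprime_primes hr Nat.prime_two).2 hr2
  have e1 : centralizer ({x} : Set G) = (centralizer ({φ x} : Set Q)).comap φ := by
    ext g
    rw [mem_comap, mem_centralizer_singleton_iff, mem_centralizer_singleton_iff]
    constructor
    · intro h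
      rw [← map_mul, h, map_mul]
    · intro h
      set w := g * x * g⁻¹ with hw
      have hwo : orderOf w = r := by rw [hw, isConj_orderOf (isConj_iff.2 ⟨g, rfl⟩), hx]
      have hz' : x⁻¹ * w ∈ φ.ker := by
        rw [MonoidHom.mem_ker, map_mul, map_inv, hw, map_mul, map_mul, map_inv, h]
        group
      set z := x⁻¹ * w with hz
      have hwz : w = x * z := by rw [hz]; group
      have hzc : Commute x z := mem_center_iff.1 (hker hz') x
      obtain ⟨k, hk⟩ := hp ⟨z, hz'⟩
      have hk' : z ^ 2 ^ k = 1 := by simpa using congrArg Subtype.val hk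
      have h1 : (x * z) ^ r = 1 := by rw [← hwz, ← hwo]; exact pow_orderOf_eq_one _
      have h0 : x ^ r = 1 := by rw [← hx]; exact pow_orderOf_eq_one _
      rw [hzc.mul_pow, h0, one_mul] at h1
      have h2 : orderOf z ∣ r := orderOf_dvd_of_pow_eq_one h1
      have h3 : orderOf z ∣ 2 ^ k := orderOf_dvd_of_pow_eq_one hk'
      have h4 : orderOf z = 1 := Nat.eq_one_of_dvd_coprimes (Nat.Coprime.pow_right k hcop) h2 h3
      rw [orderOf_eq_one_iff.1 h4, mul_one, hw] at hwz
      exact mul_inv_eq_iff_eq_mul.1 hwz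
  rw [e1, index_comap_of_surjective _ hφ]

theorem Dv.of_quot {G : Type u} [Group G] {Q : Type v} [Group Q] {r k : ℕ} (hr : r.Prime)
    (hr2 : r ≠ 2) {φ : G →* Q}
    (hφ : Function.Surjective φ) (hker : φ.ker ≤ center G) (hp : IsPGroup 2 φ.ker)
    (h : Dv r k Q) : Dv r k G := by
  intro x hx
  rw [index_quot hr hr2 hφ hker hp hx]
  exact h _ (orderOf_image hr hr2 hp hx)

theorem Dv.of_normal {G : Type u} [Group G] [Finite G] {r k : ℕ} {N : Subgroup G} [N.Normal]
    (hN : ∀ x : G, orderOf x = r → x ∈ N) (h : Dv r k N) : Dv r k G := by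
  intro x hx
  have h1 := h ⟨x, hN x hx⟩ (by rw [orderOf_mk, hx])
  have e : centralizer ({(⟨x, hN x hx⟩ : N)} : Set N) = (centralizer ({x} : Set G)).subgroupOf N := by
    ext n
    rw [mem_subgroupOf, mem_centralizer_singleton_iff, mem_centralizer_singleton_iff]
    constructor
    · intro h2
      exact congrArg Subtype.val h2
    · intro h2
      exact Subtype.ext h2
  rw [e] at h1
  refine h1.trans ?_
  set K := centralizer ({x} : Set G) with hK
  show K.relIndex N ∣ K.index
  have h2 : (K ⊓ N).relIndex N * N.index = (K ⊓ N).index := relIndex_mul_index inf_le_right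
  have h3 : (K ⊓ N).relIndex K * K.index = (K ⊓ N).index := relIndex_mul_index inf_le_left
  rw [inf_relIndex_right] at h2
  rw [inf_relIndex_left] at h3
  obtain ⟨c, hc⟩ := relIndex_dvd_index_of_normal N K
  have h4 : N.relIndex K ≠ 0 := index_ne_zero_of_finite
  refine ⟨c, ?_⟩
  apply Nat.eq_of_mul_eq_mul_left (Nat.pos_of_ne_zero h4)
  rw [h3, ← h2, hc]
  ring

/-- bound for the number of conjugates of `t` under `H` -/
theorem relIndex_le_of_conj {G : Type u} [Group G] [Finite G] {H : Subgroup G} {t : G} {s : Set G}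
    (hs : ∀ c ∈ H, c * t * c⁻¹ ∈ s) : (centralizer ({t} : Set G)).relIndex H ≤ s.ncard := by
  classical
  rw [relIndex, index, ← Nat.card_coe_set_eq]
  let f : (H ⧸ (centralizer ({t} : Set G)).subgroupOf H) → s := fun q =>
    ⟨(Quotient.out q : H) * t * ((Quotient.out q : H) : G)⁻¹, hs _ (Quotient.out q : H).2⟩
  apply Nat.card_le_card_of_injective f
  intro p q hpq
  have h1 : ((Quotient.out p : H) : G) * t * ((Quotient.out p : H) : G)⁻¹ =
      ((Quotient.out q : H) : G) * t * ((Quotient.out q : H) : G)⁻¹ := congrArg Subtype.val hpq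
  rw [← QuotientGroup.out_eq' p, ← QuotientGroup.out_eq' q, QuotientGroup.eq, mem_subgroupOf,
    mem_centralizer_singleton_iff]
  push_cast
  have h2 := congrArg (fun y => ((Quotient.out p : H) : G)⁻¹ * y * ((Quotient.out q : H) : G)) h1
  simp only [mul_assoc, inv_mul_cancel_left, inv_mul_cancel, mul_one] at h2
  simp only [mul_assoc]
  exact h2.symm

/-- arithmetic -/
theorem dvd_of_mul {a b c w k e l : ℕ} (h : a * b = c * w) (hb0 : b ≠ 0) (hb : b < 2 ^ (l + 1))
    (hc : 2 ^ e ∣ c) (hw : 2 ^ k ∣ w) {m : ℕ} (hm : m + l ≤ k + e) : 2 ^ m ∣ a := by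
  obtain ⟨j, b', hb', hj⟩ := Nat.exists_eq_pow_mul_and_not_dvd hb0 2 (by norm_num)
  have hb'0 : 0 < b' := by
    rcases Nat.eq_zero_or_pos b' with h0 | h0
    · rw [h0] at hb'
      exact absurd (dvd_zero 2) hb'
    · exact h0
  have hjl : j < l + 1 := by
    by_contra hcon
    have h1 : 2 ^ (l + 1) ≤ 2 ^ j := Nat.pow_le_pow_right (by norm_num) (not_lt.1 hcon)
    have h2 : 2 ^ j ≤ b := by
      rw [hj]
      exact Nat.le_mul_of_pos_right _ hb'0
    omega
  have h1 : 2 ^ (k + e) ∣ a * b := by
    rw [h, pow_add, mul_comm c w]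
    exact mul_dvd_mul hw hc
  have h2 : 2 ^ j * 2 ^ m ∣ 2 ^ j * (b' * a) := by
    have e1 : 2 ^ j * (b' * a) = a * b := by rw [hj]; ring
    rw [e1, ← pow_add]
    exact (pow_dvd_pow 2 (by omega)).trans h1
  have h3 : 2 ^ m ∣ b' * a := Nat.dvd_of_mul_dvd_mul_left (by positivity) h2
  have h4 : Nat.Coprime (2 ^ m) b' :=
    Nat.Coprime.pow_left m ((Nat.Prime.coprime_iff_not_dvd Nat.prime_two).2 hb')
  exact h4.dvd_of_dvd_mul_left h3

theorem centralizer_subgroupOf {G : Type u} [Group G] {H : Subgroup G} {x : G} (hx : x ∈ H) :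
    centralizer ({(⟨x, hx⟩ : H)} : Set H) = (centralizer ({x} : Set G)).subgroupOf H := by
  ext n
  rw [mem_subgroupOf, mem_centralizer_singleton_iff, mem_centralizer_singleton_iff]
  constructor
  · intro h2
    exact congrArg Subtype.val h2
  · intro h2
    exact Subtype.ext h2

/-- from the centraliser of `t` up to `G` -/
theorem dvd_index_up {G : Type u} [Group G] [Finite G] {t x : G} (hx : x ∈ centralizer ({t} : Set G))
    {k e l m : ℕ}
    (hw : 2 ^ k ∣ (centralizer ({(⟨x, hx⟩ : centralizer ({t} : Set G))} :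
      Set (centralizer ({t} : Set G)))).index)
    (hc : 2 ^ e ∣ (centralizer ({t} : Set G)).index)
    (hb : (centralizer ({t} : Set G)).relIndex (centralizer ({x} : Set G)) < 2 ^ (l + 1))
    (hm : m + l ≤ k + e) : 2 ^ m ∣ (centralizer ({x} : Set G)).index := by
  set K := centralizer ({x} : Set G) with hK
  set C := centralizer ({t} : Set G) with hC
  rw [centralizer_subgroupOf] at hw
  have h2 : (K ⊓ C).relIndex C * C.index = (K ⊓ C).index := relIndex_mul_index inf_le_right
  have h3 : (K ⊓ C).relIndex K * K.index = (K ⊓ C).index := relIndex_mul_index inf_le_left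
  rw [inf_relIndex_right] at h2
  rw [inf_relIndex_left] at h3
  have h4 : C.relIndex K ≠ 0 := index_ne_zero_of_finite
  refine dvd_of_mul (a := K.index) (b := C.relIndex K) (c := C.index) (w := K.relIndex C) ?_ h4 hb hc
    hw hm
  rw [mul_comm K.index, h3, ← h2, mul_comm]

theorem relIndex_le_index {G : Type u} [Group G] [Finite G] (C K : Subgroup G) :
    C.relIndex K ≤ C.index := by
  rw [← relIndex_top_right C]
  exact relIndex_le_of_le_right le_top (by rw [relIndex_top_right]; exact index_ne_zero_of_finite)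

theorem card_inf {G : Type u} [Group G] {t x : G} (hx : x ∈ centralizer ({t} : Set G)) :
    Nat.card ↥(centralizer ({x} : Set G) ⊓ centralizer ({t} : Set G)) *
      (centralizer ({(⟨x, hx⟩ : centralizer ({t} : Set G))} : Set (centralizer ({t} : Set G)))).index
      = Nat.card (centralizer ({t} : Set G)) := by
  rw [← Subgroup.card_mul_index (centralizer ({(⟨x, hx⟩ : centralizer ({t} : Set G))} :
    Set (centralizer ({t} : Set G))))]
  congr 1
  rw [centralizer_subgroupOf]
  refine Nat.card_congr (Equiv.symm ?_)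
  refine (Equiv.trans (subgroupOfEquivOfLe (H := centralizer ({x} : Set G) ⊓ centralizer ({t} : Set G))
    (K := centralizer ({t} : Set G)) inf_le_right).symm.toEquiv ?_).symm
  rw [inf_subgroupOf_right]

/-- an involution whose centraliser has order `2` mod `4` -/
theorem not_four {G : Type u} [Group G] [Finite G] {X : Subgroup G} {d : G} (hd : d ∈ X)
    (hd2 : orderOf d = 2) (h : ¬ 4 ∣ Nat.card ↥(X ⊓ centralizer ({d} : Set G))) : ¬ 4 ∣ Nat.card X := by
  intro h4
  have hf : Fact (Nat.Prime 2) := ⟨Nat.prime_two⟩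
  have hc : Nat.card (zpowers (⟨d, hd⟩ : X)) = 2 ^ 1 := by
    rw [Nat.card_zpowers, orderOf_mk, hd2, pow_one]
  obtain ⟨K, hK, hle⟩ := Sylow.exists_subgroup_card_pow_succ (G := X) (p := 2) (n := 1)
    (by simpa using h4) hc
  have hcomm : ∀ a b : K, a * b = b * a := by
    have := IsPGroup.isMulCommutative_of_card_eq_prime_sq (G := K) (p := 2) (by simpa using hK)
    exact fun a b => this.is_comm.comm a b
  apply h
  have h1 : K.map X.subtype ≤ X ⊓ centralizer ({d} : Set G) := by
    rintro _ ⟨k, hk, rfl⟩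
    refine mem_inf.2 ⟨k.2, ?_⟩
    rw [mem_centralizer_singleton_iff]
    have := hcomm ⟨k, hk⟩ ⟨⟨d, hd⟩, hle (mem_zpowers _)⟩
    exact congrArg (fun y => ((y : K) : X).1) this
  have h2 : Nat.card (K.map X.subtype) = 4 := by
    rw [← Nat.card_congr (K.equivMapOfInjective X.subtype X.subtype_injective).toEquiv, hK]
    norm_num
  rw [← h2]
  exact card_dvd_of_le h1

end Cfsg.Agent.H657.FourFi
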