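import Cfsg.Agent.H657.FourFi.Sev

/-!
# Elements of order seven which generate their own centraliser

If `|G|` is divisible by 7 exactly once, `|G| / 7 ≡ -1` mod 7, and every element of order divisible by 7 has
order 7, then `|C(x)| = 7` for every `x` of order 7 and `x` is conjugate to its powers.  If moreover `G` has an
irreducible character whose degree is the 2-part of `|G|` (and `≡ 1` mod 7), then `Sev 7 G`.
-/

set_option autoImplicit false

open Cfsg

namespace Cfsg.Agent.H657.FourFi

open Cfsg.Agent.Blocks.LocalRing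
open Cfsg.Agent.Blocks
open Cfsg.Agent.Characters.Core
open Cfsg.Agent.H652.Four

universe u v

section

variable {G : Type u} [Group G] [Finite G]

theorem card_cent {r : ℕ} (hr : r.Prime) (h2 : ¬ r ^ 2 ∣ Nat.card G)
    (h7 : ∀ x : G, r ∣ orderOf x → x ^ r = 1) {x : G} (hx : orderOf x = r) :
    Nat.card (Subgroup.centralizer ({x} : Set G)) = r := by
  set C := Subgroup.centralizer ({x} : Set G) with hC
  have hpos : 0 < Nat.card C := Nat.card_pos
  have hxC : x ∈ C := Subgroup.mem_centralizer_singleton_iff.2 rfl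
  have hdvd : r ∣ Nat.card C := by
    rw [← hx, ← Subgroup.orderOf_mk x hxC]
    exact orderOf_dvd_natCard _
  have huniq : ∀ {s : ℕ}, s.Prime → s ∣ Nat.card C → s = r := by
    intro s hs hsd
    by_contra hne
    have hf : Fact s.Prime := ⟨hs⟩
    obtain ⟨y, hy⟩ := exists_prime_orderOf_dvd_card' (G := C) s hsd
    have hy' : orderOf (y : G) = s := by rw [Subgroup.orderOf_coe, hy]
    have hcomm : Commute (y : G) x := Subgroup.mem_centralizer_singleton_iff.1 y.2
    have hcop : (orderOf (y : G)).Coprime (orderOf x) := by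
      rw [hy', hx]
      exact (Nat.coprime_primes hs hr).2 hne
    have hord : orderOf ((y : G) * x) = s * r := by
      rw [hcomm.orderOf_mul_eq_mul_orderOf_of_coprime hcop, hy', hx]
    have h1 := h7 ((y : G) * x) (by rw [hord]; exact dvd_mul_left r s)
    have h3 : s * r ∣ r := by
      rw [← hord]
      exact orderOf_dvd_of_pow_eq_one h1
    have h4 := Nat.le_of_dvd hr.pos h3
    have h5 := hs.two_le
    have h6 := hr.pos
    nlinarith
  obtain ⟨n, hn⟩ : ∃ n, Nat.card C = r ^ n :=
    ⟨_, Nat.eq_prime_pow_of_unique_prime_dvd hpos.ne' huniq⟩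
  rcases n with _ | _ | n
  · rw [hn, pow_zero] at hdvd
    exact absurd (Nat.dvd_one.1 hdvd) hr.one_lt.ne'
  · rw [hn, zero_add, pow_one]
  · exfalso
    apply h2
    refine dvd_trans (pow_dvd_pow r (by omega : 2 ≤ n + 1 + 1)) ?_
    rw [← hn]
    exact Subgroup.card_subgroup_dvd_card C

/-- a subgroup acts by conjugation on the class of `x` -/
@[instance_reducible] def conjAct (P : Subgroup G) (x : G) : MulAction P {y : G // IsConj x y} where
  smul p y := ⟨p * y * (p : G)⁻¹, y.2.trans (isConj_iff.2 ⟨p, rfl⟩)⟩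
  one_smul y := Subtype.ext (by
    show ((1 : P) : G) * y * ((1 : P) : G)⁻¹ = y
    simp)
  mul_smul a b y := Subtype.ext (by
    show ((a * b : P) : G) * y * ((a * b : P) : G)⁻¹ = a * (b * y * (b : G)⁻¹) * (a : G)⁻¹
    push_cast
    group)

theorem card_class (x : G) :
    Nat.card {y : G // IsConj x y} = (Subgroup.centralizer ({x} : Set G)).index := by
  classical
  have := Fintype.ofFinite G
  have h := CliffordCentral.card_class_eq_index x
  rw [← Nat.cast_inj (R := ℂ), ← h, Nat.card_eq_fintype_card, Fintype.card_subtype]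

/-- `x` is conjugate to the other generators of `⟨x⟩` -/
theorem isConj_of_mem {r : ℕ} (hr : r.Prime)
    {x : G} (hx : orderOf x = r) (hc : Nat.card (Subgroup.centralizer ({x} : Set G)) = r)
    (hm : (Subgroup.centralizer ({x} : Set G)).index % r = r - 1) {y : G}
    (hy : y ∈ Subgroup.zpowers x) (hy1 : y ≠ 1) : IsConj x y := by
  classical
  have hf : Fact r.Prime := ⟨hr⟩
  set P := Subgroup.zpowers x with hP
  have hcardP : Nat.card P = r := by rw [hP, Nat.card_zpowers, hx]
  have hPp : IsPGroup r P := IsPGroup.of_card (n := 1) (by rw [hcardP, pow_one])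
  have hCP : Subgroup.centralizer ({x} : Set G) = P := by
    symm
    apply Subgroup.eq_of_le_of_card_ge
    · rw [hP, Subgroup.zpowers_le, Subgroup.mem_centralizer_singleton_iff]
    · rw [hc, hcardP]
  let _ := conjAct P x
  have h1 := hPp.card_modEq_card_fixedPoints {y : G // IsConj x y}
  rw [card_class] at h1
  -- the fixed points lie in `P`
  have hfix : ∀ z : {y : G // IsConj x y}, z ∈ MulAction.fixedPoints P {y : G // IsConj x y} →
      (z : G) ∈ P := by
    intro z hz
    rw [← hCP, Subgroup.mem_centralizer_singleton_iff]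
    have h2 := congrArg Subtype.val (hz ⟨x, Subgroup.mem_zpowers x⟩)
    have h3 : x * (z : G) * x⁻¹ = z := h2
    rw [mul_inv_eq_iff_eq_mul] at h3
    exact h3.symm
  let f : MulAction.fixedPoints P {y : G // IsConj x y} → {y : P // y ≠ 1} := fun z =>
    ⟨⟨z.1.1, hfix z.1 z.2⟩, by
      intro h
      have h4 : (z.1.1 : G) = 1 := congrArg Subtype.val h
      have h5 := isConj_orderOf z.1.2
      rw [h4, orderOf_one, hx] at h5
      exact hr.one_lt.ne h5⟩
  have hfinj : Function.Injective f := by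
    intro a b hab
    have h6 : (a.1.1 : G) = b.1.1 := congrArg (fun t => ((t : {y : P // y ≠ 1}).1 : G)) hab
    exact Subtype.ext (Subtype.ext h6)
  have hcardT : Nat.card {y : P // y ≠ 1} = r - 1 := by
    have := Fintype.ofFinite P
    rw [Nat.card_eq_fintype_card, Fintype.card_subtype_compl, ← Nat.card_eq_fintype_card, hcardP]
    simp
  have hle : Nat.card (MulAction.fixedPoints P {y : G // IsConj x y}) ≤ r - 1 := by
    rw [← hcardT]
    exact Nat.card_le_card_of_injective f hfinj
  have heq : Nat.card (MulAction.fixedPoints P {y : G // IsConj x y}) = r - 1 := by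
    have h7 : Nat.card (MulAction.fixedPoints P {y : G // IsConj x y}) % r = r - 1 := by
      rw [← hm]
      exact h1.symm
    rwa [Nat.mod_eq_of_lt (lt_of_le_of_lt hle (Nat.sub_lt hr.pos one_pos))] at h7
  have hbij : Function.Bijective f := by
    rw [Nat.bijective_iff_injective_and_card]
    exact ⟨hfinj, by rw [heq, hcardT]⟩
  obtain ⟨z, hz⟩ := hbij.2 ⟨⟨y, hy⟩, fun h => hy1 (congrArg Subtype.val h)⟩
  have h8 : (z.1.1 : G) = y := congrArg (fun t => ((t : {y : P // y ≠ 1}).1 : G)) hz
  rw [← h8]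
  exact z.1.2

/-- all elements of order `r` are conjugate -/
theorem isConj_all {r : ℕ} (hr : r.Prime) (h2 : ¬ r ^ 2 ∣ Nat.card G) {x : G} (hx : orderOf x = r)
    (h : ∀ y ∈ Subgroup.zpowers x, y ≠ 1 → IsConj x y) (a b : G) (ha : orderOf a = r)
    (hb : orderOf b = r) : IsConj a b := by
  have key : ∀ a : G, orderOf a = r → IsConj x a := by
    intro a ha
    have hf : Fact r.Prime := ⟨hr⟩
    have hsyl : ∀ a : G, orderOf a = r → ∃ P : Sylow r G, (P : Subgroup G) = Subgroup.zpowers a := by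
      intro a ha
      have hcard : Nat.card (Subgroup.zpowers a) = r := by rw [Nat.card_zpowers, ha]
      have hp : IsPGroup r (Subgroup.zpowers a) := IsPGroup.of_card (n := 1) (by rw [hcard, pow_one])
      obtain ⟨P, hP⟩ := hp.exists_le_sylow
      refine ⟨P, (Subgroup.eq_of_le_of_card_ge hP ?_).symm⟩
      obtain ⟨n, hn⟩ := P.2.exists_card_eq
      rw [hcard, hn]
      by_contra hlt
      apply h2
      have h3 : 2 ≤ n := by
        by_contra h4
        apply hlt
        have h5 : n ≤ 1 := by omega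
        calc r ^ n ≤ r ^ 1 := Nat.pow_le_pow_right hr.pos h5
          _ = r := pow_one r
      exact (pow_dvd_pow r h3).trans (hn ▸ Subgroup.card_subgroup_dvd_card (P : Subgroup G))
    obtain ⟨P, hP⟩ := hsyl a ha
    obtain ⟨Q, hQ⟩ := hsyl x hx
    obtain ⟨g, hg⟩ := MulAction.exists_smul_eq G P Q
    have h1 : g * a * g⁻¹ ∈ Subgroup.zpowers x := by
      have h0 : a ∈ (P : Subgroup G) := by rw [hP]; exact Subgroup.mem_zpowers a
      rw [← hQ, ← hg, Sylow.coe_subgroup_smul]
      exact Subgroup.smul_mem_pointwise_smul a (MulAut.conj g) (P : Subgroup G) h0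
    have h4 : g * a * g⁻¹ ≠ 1 := by
      intro h5
      have h6 := isConj_orderOf (isConj_iff.2 ⟨g, rfl⟩ : IsConj a (g * a * g⁻¹))
      rw [h5, orderOf_one, ha] at h6
      exact hr.one_lt.ne h6
    exact (h _ h1 h4).trans (isConj_iff.2 ⟨g⁻¹, by group⟩)
  exact (key a ha).symm.trans (key b hb)

/-- the value of a character of degree `≡ 1` mod 7 -/
theorem value_seven {x : G} (hx : orderOf x = 7)
    (hc : Nat.card (Subgroup.centralizer ({x} : Set G)) = 7)
    (h : ∀ y ∈ Subgroup.zpowers x, y ≠ 1 → IsConj x y) (θ : IrrCharacter G) {d : ℕ}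
    (hd : (θ : G → ℂ) 1 = d) (hd1 : d % 7 = 1) : (θ : G → ℂ) x = 1 := by
  have hpow : ∀ m : ℕ, m.Coprime 7 → IsConj x (x ^ m) := by
    intro m hm
    refine h _ (Subgroup.npow_mem_zpowers x m) ?_
    intro h1
    have h2 : 7 ∣ m := by rw [← hx]; exact orderOf_dvd_of_pow_eq_one h1
    have h3 := Nat.Coprime.eq_one_of_dvd hm.symm h2
    omega
  obtain ⟨k, hk⟩ := Cfsg.Agent.J3Type.CharTools.int_of_conj (isIrr_isCharacter θ.2) x
    (fun m hm => hpow m (by rwa [hx] at hm))
  obtain ⟨e, -, he⟩ := Cfsg.Agent.Characters.SchurBound.exists_sum_range (isIrr_isCharacter θ.2) hd x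
  rw [hx] at he
  have hv : ∀ m : ℕ, m.Coprime 7 → (θ : G → ℂ) (x ^ m) = k := by
    intro m hm
    rw [← hk]
    exact Basic.irr_isConj θ.2 (hpow m hm).symm
  simp only [Finset.sum_range_succ, Finset.sum_range_zero, zero_add, pow_zero, hd] at he
  rw [hv 1 (by norm_num), hv 2 (by norm_num), hv 3 (by norm_num), hv 4 (by norm_num),
    hv 5 (by norm_num), hv 6 (by norm_num)] at he
  have he' : (d : ℤ) + 6 * k = 7 * e := by
    have : ((d : ℤ) + 6 * k : ℂ) = ((7 : ℤ) * (e : ℤ) : ℂ) := by
      push_cast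
      push_cast at he
      linear_combination he
    exact_mod_cast this
  have hb := Cfsg.Agent.CharactersDeep.ColumnBessel.sum_norm_sq_le ({θ} : Finset (IrrCharacter G)) x
  rw [Finset.sum_singleton, hc, hk] at hb
  have hb2 : k ^ 2 ≤ 7 := by
    have h1 : ‖(k : ℂ)‖ ^ 2 = ((k ^ 2 : ℤ) : ℝ) := by
      rw [Complex.norm_intCast, sq_abs]
      push_cast
      ring
    rw [h1] at hb
    exact_mod_cast hb
  have hk1 : k ≤ 2 := by nlinarith
  have hk2 : -2 ≤ k := by nlinarith
  have hk3 : k = 1 := by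
    have hdz : (d : ℤ) % 7 = 1 := by exact_mod_cast hd1
    omega
  rw [hk, hk3]
  norm_num

/-- **The start.** -/
theorem sev_of_steinberg (h2 : ¬ 7 ^ 2 ∣ Nat.card G) (h7 : ∀ x : G, 7 ∣ orderOf x → x ^ 7 = 1)
    {a m : ℕ} (hcard : Nat.card G = 7 * (2 ^ a * m)) (hm : ¬ 2 ∣ m) (hm7 : (2 ^ a * m) % 7 = 6)
    (ha7 : 2 ^ a % 7 = 1)
    (hθ : ∃ θ : G → ℂ, IsIrrCharacter G θ ∧ θ 1 = ((2 ^ a : ℕ) : ℂ)) : Sev 7 G := by
  have h7p : Nat.Prime 7 := by norm_num
  have hf : Fact (Nat.Prime 7) := ⟨h7p⟩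
  have hidx : ∀ x : G, orderOf x = 7 → (Subgroup.centralizer ({x} : Set G)).index = 2 ^ a * m := by
    intro x hx
    have h1 := (Subgroup.centralizer ({x} : Set G)).card_mul_index
    rw [card_cent h7p h2 h7 hx, hcard] at h1
    exact Nat.eq_of_mul_eq_mul_left (by norm_num) h1
  have hz : ∀ x : G, orderOf x = 7 → ∀ y ∈ Subgroup.zpowers x, y ≠ 1 → IsConj x y :=
    fun x hx y hy hy1 => isConj_of_mem h7p hx (card_cent h7p h2 h7 hx) (by rw [hidx x hx, hm7]) hy hy1
  refine ⟨exists_prime_orderOf_dvd_card' 7 (by rw [hcard]; exact dvd_mul_right _ _), ?_, ?_⟩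
  · intro x y hx hy
    exact isConj_all h7p h2 hx (hz x hx) x y hx hy
  · intro M hM x hx
    obtain ⟨θ, hθ, hθ1⟩ := hθ
    have hv := value_seven hx (card_cent h7p h2 h7 hx) (hz x hx) ⟨θ, hθ⟩ hθ1 ha7
    refine NN.of_int hM ⟨θ, hθ⟩ (n := m) ?_ (by exact_mod_cast hm)
    rw [Basic.centralChar_def, hv]
    show ((Subgroup.centralizer ({x} : Set G)).index : ℂ) * 1 / θ 1 = _
    rw [hidx x hx, hθ1]
    have h20 : ((2 ^ a : ℕ) : ℂ) ≠ 0 := by
      rw [Nat.cast_ne_zero]
      positivity
    push_cast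
    push_cast at h20
    field_simp

end

end Cfsg.Agent.H657.FourFi
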