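import Cfsg.Agent.H652.Four.Base
import Cfsg.Agent.CharactersDeep.ColumnBessel
import Cfsg.Agent.J3Type.CharTools
import Cfsg.Agent.Characters.SchurBound

/-!
# The class of elements of prime order `r`, `|G|` divisible by `r` exactly once

`Sev r G` : `G` has elements of order `r`, they are all conjugate, and the class is not nilpotent modulo two.
The property passes from a quotient by a central 2-group, from a normal subgroup containing
the elements of order `r`, and from the centraliser of an abelian 2-subgroup.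
-/

set_option autoImplicit false

open Cfsg

namespace Cfsg.Agent.H657.FourFi

open Cfsg.Agent.Blocks.LocalRing
open Cfsg.Agent.Blocks
open Cfsg.Agent.Characters.Core
open Cfsg.Agent.H652.Four

universe u v

/-- the elements of order `r` form one class, not nilpotent modulo two -/
structure Sev (r : ℕ) (G : Type u) [Group G] : Prop where
  ex : ∃ x : G, orderOf x = r
  conj : ∀ x y : G, orderOf x = r → orderOf y = r → IsConj x y
  nn : ∀ M : Ideal AlgInt, IsPModular 2 M → ∀ x : G, orderOf x = r → NN M (cl x)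

theorem isConj_orderOf {G : Type*} [Group G] {x y : G} (h : IsConj x y) : orderOf y = orderOf x := by
  obtain ⟨c, rfl⟩ := isConj_iff.1 h
  exact MulEquiv.orderOf_eq (MulAut.conj c) x

/-- the restriction of `cl x` to a subgroup in which the elements of order `r` form one class -/
theorem cl_restrict {G : Type u} [Group G] {r : ℕ} {H : Subgroup G}
    (hc : ∀ x y : H, orderOf x = r → orderOf y = r → IsConj x y) {x : H} (hx : orderOf x = r) :
    (fun h : H => cl (x : G) (h : G)) = cl x := by
  funext h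
  by_cases hh : IsConj (x : G) (h : G)
  · rw [cl_pos hh, cl_pos]
    apply hc x h hx
    rw [← Subgroup.orderOf_coe, isConj_orderOf hh, Subgroup.orderOf_coe, hx]
  · rw [cl_neg hh, cl_neg]
    intro h'
    exact hh (H.subtype.map_isConj h')

/-- from the centraliser of an abelian 2-subgroup -/
theorem Sev.nn_of_cent {G : Type u} [Group G] [Finite G] {r : ℕ} {P : Subgroup G} (hP : IsPGroup 2 P)
    (hPC : P ≤ Subgroup.centralizer (P : Set G)) (h : Sev r (Subgroup.centralizer (P : Set G)))
    {M : Ideal AlgInt} (hM : IsPModular 2 M) {x : G} (hx : orderOf x = r)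
    (hxP : x ∈ Subgroup.centralizer (P : Set G)) : NN M (cl x) := by
  refine NN.brauer hM hP hPC (fun g y => ?_) ?_ ?_
  · exact cl_conj x y g
  · intro g
    by_cases hg : IsConj x g
    · rw [cl_pos hg]
      simpa using memLocalRing_natCast hM 1
    · rw [cl_neg hg]
      simpa using memLocalRing_natCast hM 0
  · have e := cl_restrict h.conj (x := ⟨x, hxP⟩) (by rw [Subgroup.orderOf_mk, hx])
    rw [show (fun h : Subgroup.centralizer (P : Set G) => cl x (h : G)) =
      cl (⟨x, hxP⟩ : Subgroup.centralizer (P : Set G)) from e]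
    exact h.nn M hM _ (by rw [Subgroup.orderOf_mk, hx])

/-- from a normal subgroup -/
theorem Sev.of_normal {G : Type u} [Group G] [Finite G] {r : ℕ} {N : Subgroup G} [N.Normal]
    (hN : ∀ x : G, orderOf x = r → x ∈ N) (h : Sev r N) : Sev r G where
  ex := by
    obtain ⟨x, hx⟩ := h.ex
    exact ⟨x, by rw [Subgroup.orderOf_coe, hx]⟩
  conj x y hx hy := by
    have := h.conj ⟨x, hN x hx⟩ ⟨y, hN y hy⟩ (by rw [Subgroup.orderOf_mk, hx])
      (by rw [Subgroup.orderOf_mk, hy])
    exact N.subtype.map_isConj this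
  nn M hM x hx := by
    refine NN.normal (N := N) (fun g y => cl_conj x y g) ?_ ?_
    · intro g hg
      refine cl_neg fun hc => hg (hN g ?_)
      rw [isConj_orderOf hc, hx]
    · have e := cl_restrict h.conj (x := ⟨x, hN x hx⟩) (by rw [Subgroup.orderOf_mk, hx])
      rw [show (fun n : N => cl x (n : G)) = cl (⟨x, hN x hx⟩ : N) from e]
      exact h.nn M hM _ (by rw [Subgroup.orderOf_mk, hx])

/-- from a quotient by a central 2-group -/
theorem Sev.of_quot {G : Type u} [Group G] [Finite G] {Q : Type v} [Group Q] {r : ℕ} (hr : r.Prime)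
    (hr2 : r ≠ 2) {φ : G →* Q}
    (hφ : Function.Surjective φ) (hker : φ.ker ≤ Subgroup.center G) (hp : IsPGroup 2 φ.ker)
    (h : Sev r Q) : Sev r G := by
  have hcop : Nat.Coprime r 2 := (Nat.coprime_primes hr Nat.prime_two).2 hr2
  have hord : ∀ x : G, orderOf x = r → orderOf (φ x) = r := by
    intro x hx
    have h1 : orderOf (φ x) ∣ r := hx ▸ orderOf_map_dvd φ x
    rcases (Nat.dvd_prime hr).1 h1 with h2 | h2
    · exfalso
      have h3 : x ∈ φ.ker := orderOf_eq_one_iff.1 h2
      obtain ⟨k, hk⟩ := hp ⟨x, h3⟩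
      have hk' : x ^ 2 ^ k = 1 := by simpa using congrArg Subtype.val hk
      have h4 : orderOf x ∣ 2 ^ k := orderOf_dvd_of_pow_eq_one hk'
      rw [hx] at h4
      exact hr.one_lt.ne' (Nat.eq_one_of_dvd_coprimes (Nat.Coprime.pow_right k hcop) dvd_rfl h4)
    · exact h2
  refine ⟨?_, ?_, ?_⟩
  · obtain ⟨q, hq⟩ := h.ex
    have hf : Fact r.Prime := ⟨hr⟩
    have : Finite Q := Finite.of_surjective φ hφ
    refine exists_prime_orderOf_dvd_card' r ?_
    refine dvd_trans ?_ (Subgroup.card_dvd_of_surjective φ hφ)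
    rw [← hq]
    exact orderOf_dvd_natCard q
  · intro x y hx hy
    obtain ⟨c, hc⟩ := isConj_iff.1 (h.conj _ _ (hord x hx) (hord y hy))
    obtain ⟨c, rfl⟩ := hφ c
    rw [isConj_iff]
    refine ⟨c, ?_⟩
    set w := c * x * c⁻¹ with hw
    have hwo : orderOf w = r := by rw [hw, isConj_orderOf (isConj_iff.2 ⟨c, rfl⟩), hx]
    have hz' : y⁻¹ * w ∈ φ.ker := by
      rw [MonoidHom.mem_ker, map_mul, map_inv, hw, map_mul, map_mul, map_inv, hc, inv_mul_cancel]
    set z := y⁻¹ * w with hz
    have hwz : w = y * z := by rw [hz]; group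
    have hzc : Commute y z := Subgroup.mem_center_iff.1 (hker hz') y
    obtain ⟨k, hk⟩ := hp ⟨z, hz'⟩
    have hk' : z ^ 2 ^ k = 1 := by simpa using congrArg Subtype.val hk
    have h1 : (y * z) ^ r = 1 := by rw [← hwz, ← hwo]; exact pow_orderOf_eq_one _
    have h0 : y ^ r = 1 := by rw [← hy]; exact pow_orderOf_eq_one _
    rw [hzc.mul_pow, h0, one_mul] at h1
    have h2 : orderOf z ∣ r := orderOf_dvd_of_pow_eq_one h1
    have h3 : orderOf z ∣ 2 ^ k := orderOf_dvd_of_pow_eq_one hk'
    have h4 : orderOf z = 1 := Nat.eq_one_of_dvd_coprimes (Nat.Coprime.pow_right k hcop) h2 h3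
    rw [hwz, orderOf_eq_one_iff.1 h4, mul_one]
  · intro M hM x hx
    refine NN.quot_central hφ hker hp (by rw [hx]; exact hcop) (h.nn M hM _ (hord x hx))

/-- Sylow: if `r` divides `|G|` exactly once it is enough that a subgroup has one class -/
theorem conj_of_sub {G : Type u} [Group G] [Finite G] {r : ℕ} (hr : r.Prime) (h2 : ¬ r ^ 2 ∣ Nat.card G)
    {H : Subgroup G} (hex : ∃ x : H, orderOf x = r)
    (hc : ∀ x y : H, orderOf x = r → orderOf y = r → IsConj x y) (x y : G) (hx : orderOf x = r)
    (hy : orderOf y = r) : IsConj x y := by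
  obtain ⟨z, hz⟩ := hex
  have key : ∀ x : G, orderOf x = r → IsConj (z : G) x := by
    intro x hx
    have hf : Fact r.Prime := ⟨hr⟩
    have hsyl : ∀ a : G, orderOf a = r → ∃ P : Sylow r G, (P : Subgroup G) = Subgroup.zpowers a := by
      intro a ha
      have hcard : Nat.card (Subgroup.zpowers a) = r := by rw [Nat.card_zpowers, ha]
      have hp : IsPGroup r (Subgroup.zpowers a) := IsPGroup.of_card (n := 1) (by rw [hcard, pow_one])
      obtain ⟨P, hP⟩ := hp.exists_le_sylow
      refine ⟨P, (Subgroup.eq_of_le_of_card_ge hP ?_).symm⟩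
      obtain ⟨n, hn⟩ := P.2.exists_card_eq
      rw [hcard, hn]
      by_contra hlt
      apply h2
      have h3 : 2 ≤ n := by
        by_contra h4
        apply hlt
        have h5 : n ≤ 1 := by omega
        calc r ^ n ≤ r ^ 1 := Nat.pow_le_pow_right hr.pos h5
          _ = r := pow_one r
      exact (pow_dvd_pow r h3).trans (hn ▸ Subgroup.card_subgroup_dvd_card (P : Subgroup G))
    obtain ⟨P, hP⟩ := hsyl x hx
    obtain ⟨Q, hQ⟩ := hsyl (z : G) (by rw [Subgroup.orderOf_coe, hz])
    obtain ⟨g, hg⟩ := MulAction.exists_smul_eq G P Q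
    have h1 : g * x * g⁻¹ ∈ Subgroup.zpowers (z : G) := by
      have h0 : x ∈ (P : Subgroup G) := by rw [hP]; exact Subgroup.mem_zpowers x
      rw [← hQ, ← hg, Sylow.coe_subgroup_smul]
      exact Subgroup.smul_mem_pointwise_smul x (MulAut.conj g) (P : Subgroup G) h0
    have h2 : g * x * g⁻¹ ∈ H := by
      have : Subgroup.zpowers (z : G) ≤ H := by
        rw [Subgroup.zpowers_le]
        exact z.2
      exact this h1
    have h3 : orderOf (g * x * g⁻¹) = r := by rw [isConj_orderOf (isConj_iff.2 ⟨g, rfl⟩), hx]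
    have h4 := hc z ⟨_, h2⟩ hz (by rw [Subgroup.orderOf_mk, h3])
    have h5 : IsConj (z : G) (g * x * g⁻¹) := H.subtype.map_isConj h4
    exact h5.trans (isConj_iff.2 ⟨g⁻¹, by group⟩)
  exact (key x hx).symm.trans (key y hy)

theorem Sev.of_cent {G : Type u} [Group G] [Finite G] {r : ℕ} (hr : r.Prime)
    (h2 : ¬ r ^ 2 ∣ Nat.card G) {P : Subgroup G} (hP : IsPGroup 2 P)
    (hPC : P ≤ Subgroup.centralizer (P : Set G)) (h : Sev r (Subgroup.centralizer (P : Set G))) :
    Sev r G where
  ex := by
    obtain ⟨x, hx⟩ := h.ex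
    exact ⟨x, by rw [Subgroup.orderOf_coe, hx]⟩
  conj := conj_of_sub hr h2 h.ex h.conj
  nn M hM x hx := by
    obtain ⟨z, hz⟩ := h.ex
    have hzo : orderOf (z : G) = r := by rw [Subgroup.orderOf_coe, hz]
    have h1 := h.nn_of_cent hP hPC hM (x := z) hzo z.2
    obtain ⟨c, rfl⟩ := isConj_iff.1 (conj_of_sub hr h2 h.ex h.conj (z : G) x hzo hx)
    have e : cl (c * (z : G) * c⁻¹) = cl (z : G) := by
      funext g
      by_cases hg : IsConj (z : G) g
      · rw [cl_pos hg, cl_pos]
        exact (isConj_iff.2 ⟨c, rfl⟩ : IsConj (z : G) (c * z * c⁻¹)).symm.trans hg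
      · rw [cl_neg hg, cl_neg]
        intro hg'
        exact hg ((isConj_iff.2 ⟨c, rfl⟩ : IsConj (z : G) (c * z * c⁻¹)).trans hg')
    rw [e]
    exact h1

/-- transport -/
theorem Sev.of_equiv {G : Type u} [Group G] [Finite G] {Q : Type v} [Group Q] {r : ℕ} (e : G ≃* Q)
    (h : Sev r Q) : Sev r G where
  ex := by
    obtain ⟨x, hx⟩ := h.ex
    exact ⟨e.symm x, by rw [MulEquiv.orderOf_eq, hx]⟩
  conj x y hx hy := by
    have := h.conj (e x) (e y) (by rw [MulEquiv.orderOf_eq, hx]) (by rw [MulEquiv.orderOf_eq, hy])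
    have h2 := (e.symm.toMonoidHom).map_isConj this
    simpa using h2
  nn M hM x hx := NN.of_equiv e (h.nn M hM (e x) (by rw [MulEquiv.orderOf_eq, hx]))

end Cfsg.Agent.H657.FourFi
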